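import Mathlib
import Cfsg.Agent.SporRec.LyG2.Hom
set_option linter.all false

-- part: Lib/IwasawaCoset
section
/-!
# Iwasawa's simplicity criterion in subgroup form

`N` a maximal subgroup (in the form: every subgroup containing `N` properly is everything), `A ≤ N` abelian, normalised
by `N`, whose conjugates generate the perfect group `G`, and `N` contains no nontrivial normal subgroup of `G`;
then `G` is simple.
-/

set_option autoImplicit false

namespace Cfsg.Agent.Lib.IwasawaCoset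

variable {G : Type*} [Group G]

/-- A normal subgroup not contained in `N` contains the commutator subgroup. -/
theorem commutator_le (N A K : Subgroup G) (hmax : ∀ K : Subgroup G, N ≤ K → K ≠ N → K = ⊤)
    (hAN : ∀ n ∈ N, ∀ a ∈ A, n * a * n⁻¹ ∈ A) (hAc : ∀ a ∈ A, ∀ b ∈ A, a * b = b * a)
    (hgen : Subgroup.normalClosure (A : Set G) = ⊤) (hK : K.Normal) (hKN : ¬ K ≤ N) :
    commutator G ≤ K := by
  have h1 : N ⊔ K = ⊤ := by
    refine hmax _ le_sup_left fun h => hKN ?_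
    rw [← h]; exact le_sup_right
  -- every element is n * k
  have h2 : ∀ g : G, ∃ n ∈ N, ∃ k ∈ K, g = n * k := by
    intro g
    have hg : g ∈ N ⊔ K := by rw [h1]; trivial
    obtain ⟨n, hn, k, hk, rfl⟩ := Subgroup.mem_sup_of_normal_right.mp hg
    exact ⟨n, hn, k, hk, rfl⟩
  -- A ⊔ K is normal
  have h3 : (A ⊔ K).Normal := by
    constructor
    intro x hx g
    obtain ⟨a, ha, k', hk', rfl⟩ := Subgroup.mem_sup_of_normal_right.mp hx
    obtain ⟨n, hn, k, hk, rfl⟩ := h2 g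
    have e : n * k * (a * k') * (n * k)⁻¹ =
        (n * a * n⁻¹) * (n * ((a⁻¹ * k * a) * k⁻¹) * n⁻¹) * ((n * k) * k' * (n * k)⁻¹) := by group
    rw [e]
    refine mul_mem (mul_mem (Subgroup.mem_sup_left (hAN n hn a ha)) (Subgroup.mem_sup_right ?_))
      (Subgroup.mem_sup_right (hK.conj_mem _ hk' _))
    refine hK.conj_mem _ (K.mul_mem ?_ (K.inv_mem hk)) n
    have := hK.conj_mem k hk a⁻¹
    rwa [inv_inv] at this
  have h4 : A ⊔ K = ⊤ := by
    rw [eq_top_iff, ← hgen]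
    exact Subgroup.normalClosure_le_normal (fun a ha => Subgroup.mem_sup_left ha)
  rw [commutator_def, Subgroup.commutator_le]
  intro x _ y _
  have hx : x ∈ A ⊔ K := by rw [h4]; trivial
  have hy : y ∈ A ⊔ K := by rw [h4]; trivial
  obtain ⟨a, ha, k, hk, rfl⟩ := Subgroup.mem_sup_of_normal_right.mp hx
  obtain ⟨b, hb, l, hl, rfl⟩ := Subgroup.mem_sup_of_normal_right.mp hy
  rw [← QuotientGroup.eq_one_iff, commutatorElement_def]
  have ek : (k : G ⧸ K) = 1 := (QuotientGroup.eq_one_iff k).mpr hk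
  have el : (l : G ⧸ K) = 1 := (QuotientGroup.eq_one_iff l).mpr hl
  have eab : (a : G ⧸ K) * (b : G ⧸ K) = (b : G ⧸ K) * (a : G ⧸ K) := by
    rw [← QuotientGroup.mk_mul, hAc a ha b hb, QuotientGroup.mk_mul]
  simp only [QuotientGroup.mk_mul, QuotientGroup.mk_inv, ek, el, mul_one]
  rw [eab]
  group

/-- Iwasawa's criterion. -/
theorem isSimpleGroup [Nontrivial G] (N A : Subgroup G) (hmax : ∀ K : Subgroup G, N ≤ K → K ≠ N → K = ⊤)
    (hAN : ∀ n ∈ N, ∀ a ∈ A, n * a * n⁻¹ ∈ A) (hAc : ∀ a ∈ A, ∀ b ∈ A, a * b = b * a)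
    (hgen : Subgroup.normalClosure (A : Set G) = ⊤) (hperf : commutator G = ⊤)
    (hcore : ∀ K : Subgroup G, K.Normal → K ≤ N → K = ⊥) : IsSimpleGroup G := by
  refine ⟨fun K hK => ?_⟩
  by_cases hKN : K ≤ N
  · exact Or.inl (hcore K hK hKN)
  · right
    rw [eq_top_iff, ← hperf]
    exact commutator_le N A K hmax hAN hAc hgen hK hKN

end Cfsg.Agent.Lib.IwasawaCoset
end

-- part: SporRec/LyG2/Simple
section
/-!
The group `P44 ≃ M7 ≃ G₂(5)` of order `5859000000` is simple: Iwasawa's criterion for its action on the `3906`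
points (one-dimensional singular subspaces of the `7`-dimensional module).
-/

set_option autoImplicit false

namespace Cfsg.Agent.SporRec.LyG2.Simple

open scoped commutatorElement

open Cfsg.Agent.Lib.PackMat Cfsg.Agent.Lib.PackOrbit
open Cfsg.Agent.SporadicRecognition.CosetCert (ev ev_nil ev_cons ev_append)
open Cfsg.Agent.SporRec.LyG2.M7Data Cfsg.Agent.SporRec.LyG2.Rel Cfsg.Agent.SporRec.LyG2.Pres
open Cfsg.Agent.SporRec.LyG2.M7 Cfsg.Agent.SporRec.LyG2.Hom

/-- the letters in `P44` -/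
noncomputable def Y (k : ℕ) : P44 := equiv.symm ⟨X k, X_mem k⟩

theorem φ_Y (k : ℕ) : φ (Y k) = X k := by
  have h : equiv (Y k) = ⟨X k, X_mem k⟩ := equiv.apply_symm_apply _
  rw [← equiv_apply, h]

theorem φ_ev (w : List ℕ) : φ (ev Y w) = ev X w := by
  rw [map_ev]
  congr 1
  funext n
  exact φ_Y n

theorem evY_eq (w w' : List ℕ) (h : checkEq C7 (w.map cd) (w'.map cd) 0 7 = true) : ev Y w = ev Y w' := by
  apply φ_injective
  rw [φ_ev, φ_ev, ev_eq w w' h]

theorem evY_X (w : List ℕ) (k : ℕ) (h : checkEq C7 (w.map cd) ([k].map cd) 0 7 = true) : ev Y w = Y k := by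
  rw [evY_eq w [k] h, ev_cons, ev_nil, mul_one]

theorem Y_iv (k : ℕ) (h : k < 46) : Y (iv k) = (Y k)⁻¹ := by
  apply φ_injective
  rw [map_inv, φ_Y, φ_Y, X_iv k h]

theorem memY_of_word {S : Subgroup P44} {w : List ℕ} (h : ∀ k ∈ w, Y k ∈ S) : ev Y w ∈ S := by
  induction w with
  | nil => rw [ev_nil]; exact S.one_mem
  | cons x w ih =>
    rw [ev_cons]
    exact S.mul_mem (h x List.mem_cons_self) (ih fun k hk => h k (List.mem_cons_of_mem _ hk))

/-- A subgroup of `P44` containing `a, b, c, d` is everything. -/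
theorem eq_top_of_mem {S : Subgroup P44} (h0 : Y 0 ∈ S) (h2 : Y 2 ∈ S) (h4 : Y 4 ∈ S) (h6 : Y 6 ∈ S) :
    S = ⊤ := by
  have h : M7 ≤ S.map φ := by
    unfold M7
    rw [Subgroup.closure_le]
    rintro x (rfl | rfl | rfl | rfl)
    · exact ⟨Y 0, h0, φ_Y 0⟩
    · exact ⟨Y 2, h2, φ_Y 2⟩
    · exact ⟨Y 4, h4, φ_Y 4⟩
    · exact ⟨Y 6, h6, φ_Y 6⟩
  rw [eq_top_iff]
  intro x _
  have hx : φ x ∈ M7 := by rw [← φ_range]; exact ⟨x, rfl⟩
  obtain ⟨y, hy, hxy⟩ := h hx
  rwa [← φ_injective hxy]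

/-- subgroup generated by letters -/
noncomputable def gpY (L : List ℕ) : Subgroup P44 := Subgroup.closure {x | ∃ k ∈ L, x = Y k}

theorem gpY_mem {L : List ℕ} {k : ℕ} (h : k ∈ L) : Y k ∈ gpY L := Subgroup.subset_closure ⟨k, h, rfl⟩

theorem gpY_le {L : List ℕ} {S : Subgroup P44} (h : ∀ k ∈ L, Y k ∈ S) : gpY L ≤ S := by
  unfold gpY
  rw [Subgroup.closure_le]
  rintro x ⟨k, hk, rfl⟩
  exact h k hk

theorem gpY_map (L : List ℕ) : (gpY L).map φ = gp L := by
  unfold gpY gp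
  rw [MonoidHom.map_closure]
  congr 1
  ext x
  constructor
  · rintro ⟨y, ⟨k, hk, rfl⟩, rfl⟩
    exact ⟨k, hk, φ_Y k⟩
  · rintro ⟨k, hk, rfl⟩
    exact ⟨Y k, ⟨k, hk, rfl⟩, φ_Y k⟩

/-- the line stabiliser -/
noncomputable def NN : Subgroup P44 := gpY N1L

/-- the abelian normal subgroup of the line stabiliser -/
noncomputable def AA : Subgroup P44 := gpY [38, 40]

/-- double coset representatives -/
noncomputable def W (k : ℕ) : P44 := ev Y (wrep.getD k [])

/-- double coset decomposition -/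
theorem exists_rep (g : P44) : ∃ s ∈ NN, ∃ k < 4, ∃ n ∈ NN, g = s * W k * n := by
  have hg : φ g ∈ M7 := by rw [← φ_range]; exact ⟨g, rfl⟩
  obtain ⟨s, hs, k, hk, n, hn, h⟩ := M7Chk.O1all.exists_rep good7 (gp S1L) M7 (gp N1L) S1_le N1_le
    (gens_ok (O := O1) (L := N1L) (by decide +kernel)) R1 (fun k => ev X (wrep.getD k []))
    (fun k hk => ⟨(roots1 k hk).1, mem_of_word fun j _ => X_mem j, (roots1 k hk).2⟩)
    (fun x hx => S1_fix hx) (by
      have h1 := card_S1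
      have h2 : Nat.card M7 ≤ 15624 * Nat.card (gp S1L) := by rw [card_M7]; omega
      exact h2) (φ g) hg
  rw [← gpY_map] at hs hn
  obtain ⟨s', hs', rfl⟩ := hs
  obtain ⟨n', hn', rfl⟩ := hn
  refine ⟨s', ?_, k, hk, n', hn', ?_⟩
  · exact gpY_le (S := NN) (fun j hj => gpY_mem (by revert j; decide)) hs'
  · apply φ_injective
    rw [map_mul, map_mul, W, φ_ev]
    exact h

/-- maximality of the line stabiliser -/
theorem NN_max (K : Subgroup P44) (hle : NN ≤ K) (hne : K ≠ NN) : K = ⊤ := by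
  obtain ⟨g, hgK, hgN⟩ : ∃ g ∈ K, g ∉ NN := by
    by_contra hcon
    push Not at hcon
    exact hne (le_antisymm hcon hle)
  obtain ⟨s, hs, k, hk, n, hn, rfl⟩ := exists_rep g
  have hW : W k ∈ K := by
    have h1 := K.mul_mem (K.mul_mem (K.inv_mem (hle hs)) hgK) (K.inv_mem (hle hn))
    have e : s⁻¹ * (s * W k * n) * n⁻¹ = W k := by group
    rwa [e] at h1
  have hY : ∀ j ∈ [28, 29, 30, 31, 32, 33, 34, 36, 37, 39, 40], Y j ∈ K := by
    intro j hj
    apply hle
    have h1 : j ∈ N1L ∨ (iv j ∈ N1L ∧ j < 46 ∧ iv (iv j) = j) := by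
      revert j; decide +kernel
    rcases h1 with h1 | ⟨h1, h2, h3⟩
    · exact gpY_mem h1
    · have h4 : Y (iv j) ∈ NN := gpY_mem h1
      rw [Y_iv j h2] at h4
      exact (NN.inv_mem_iff).mp h4
  -- the element `x₄(1)`
  have h26 : Y 26 ∈ K := by
    have hk' : k = 0 ∨ k = 1 ∨ k = 2 ∨ k = 3 := by omega
    rcases hk' with rfl | rfl | rfl | rfl
    · exfalso
      apply hgN
      have : W 0 = 1 := by unfold W; rfl
      rw [this, mul_one]
      exact NN.mul_mem hs hn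
    · have e : Y 26 = (W 1)⁻¹ * Y 33 * W 1 := by
        rw [eq_comm, mul_assoc, inv_mul_eq_iff_eq_mul]
        have := evY_eq ([33] ++ wrep.getD 1 []) (wrep.getD 1 [] ++ [26]) (by decide +kernel)
        rw [ev_append, ev_append, ev_cons, ev_nil, mul_one, ev_cons, ev_nil, mul_one] at this
        exact this
      rw [e]
      exact K.mul_mem (K.mul_mem (K.inv_mem hW) (hY 33 (by decide))) hW
    · have e : Y 26 = (W 2)⁻¹ * Y 37 * W 2 := by
        rw [eq_comm, mul_assoc, inv_mul_eq_iff_eq_mul]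
        have := evY_eq ([37] ++ wrep.getD 2 []) (wrep.getD 2 [] ++ [26]) (by decide +kernel)
        rw [ev_append, ev_append, ev_cons, ev_nil, mul_one, ev_cons, ev_nil, mul_one] at this
        exact this
      rw [e]
      exact K.mul_mem (K.mul_mem (K.inv_mem hW) (hY 37 (by decide))) hW
    · have e : Y 26 = (W 3)⁻¹ * Y 34 * W 3 := by
        rw [eq_comm, mul_assoc, inv_mul_eq_iff_eq_mul]
        have := evY_eq ([34] ++ wrep.getD 3 []) (wrep.getD 3 [] ++ [26]) (by decide +kernel)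
        rw [ev_append, ev_append, ev_cons, ev_nil, mul_one, ev_cons, ev_nil, mul_one] at this
        exact this
      rw [e]
      exact K.mul_mem (K.mul_mem (K.inv_mem hW) (hY 34 (by decide))) hW
  have h27 : Y 27 ∈ K := by
    have : Y 27 = (Y 26)⁻¹ := Y_iv 26 (by norm_num)
    rw [this]; exact K.inv_mem h26
  have hall : ∀ j ∈ [26, 27, 28, 29, 30, 31, 32, 33, 34, 36, 37, 39, 40], Y j ∈ K := by
    intro j hj
    rcases List.mem_cons.mp hj with rfl | hj
    · exact h26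
    rcases List.mem_cons.mp hj with rfl | hj
    · exact h27
    exact hY j hj
  apply eq_top_of_mem
  · rw [← evY_X [32, 27, 32, 31, 31, 29, 29, 31, 31, 31, 28, 31] 0 (by decide +kernel)]
    exact memY_of_word fun j hj => hall j (by revert j; decide)
  · rw [← evY_X [32] 2 (by decide +kernel)]
    exact memY_of_word fun j hj => hall j (by revert j; decide)
  · rw [← evY_X [34, 34, 36, 39, 40, 40] 4 (by decide +kernel)]
    exact memY_of_word fun j hj => hall j (by revert j; decide)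
  · rw [← evY_X [40, 31, 28, 31, 33, 26, 33, 29, 32, 27, 32, 30, 29, 30, 40] 6 (by decide +kernel)]
    exact memY_of_word fun j hj => hall j (by revert j; decide)

/-! ### the abelian normal subgroup -/

theorem conj_list : ∀ x ∈ ([([30, 38, 31], [38, 40]), ([30, 40, 31], [40]), ([31, 38, 30], [38, 40, 40, 40, 40]), ([31, 40, 30], [40]), ([28, 38, 29], [38]), ([28, 40, 29], [38, 40]), ([29, 38, 28], [38]), ([29, 40, 28], [38, 38, 38, 38, 40]), ([32, 38, 33], [38]), ([32, 40, 33], [40]), ([33, 38, 32], [38]), ([33, 40, 32], [40]), ([34, 38, 35], [38]), ([34, 40, 35], [40]), ([35, 38, 34], [38]), ([35, 40, 34], [40]), ([36, 38, 37], [38]), ([36, 40, 37], [40]), ([37, 38, 36], [38]), ([37, 40, 36], [40]), ([38, 38, 39], [38]), ([38, 40, 39], [40]), ([39, 38, 38], [38]), ([39, 40, 38], [40]), ([40, 38, 41], [38]), ([40, 40, 41], [40]), ([41, 38, 40], [38]), ([41, 40, 40], [40]), ([42, 38, 43], [38, 38, 38]), ([42, 40, 43], [40,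 40]), ([43, 38, 42], [38, 38]), ([43, 40, 42], [40, 40, 40]), ([44, 38, 45], [38, 38, 38]), ([44, 40, 45], [40]), ([45, 38, 44], [38, 38]), ([45, 40, 44], [40])] : List (List ℕ × List ℕ)),
    checkEq C7 (x.1.map cd) (x.2.map cd) 0 7 = true ∧ ∀ j ∈ x.2, j ∈ [38, 40] := by decide +kernel

theorem conj_ok (n y : ℕ) (w : List ℕ) (hn : n < 46)
    (h : checkEq C7 ([n, y, iv n].map cd) (w.map cd) 0 7 = true ∧ ∀ j ∈ w, j ∈ [38, 40]) :
    Y n * Y y * (Y n)⁻¹ ∈ AA := by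
  have h1 := evY_eq [n, y, iv n] w h.1
  rw [ev_cons, ev_cons, ev_cons, ev_nil, mul_one, ← mul_assoc, Y_iv n hn] at h1
  rw [h1]
  exact memY_of_word fun j hj => gpY_mem (h.2 j hj)

theorem conj_gen : ∀ n < 46, n ∈ N1L ∨ iv n ∈ N1L → ∀ y ∈ [38, 40], Y n * Y y * (Y n)⁻¹ ∈ AA := by
  intro n hn hN y hy
  have key : ∀ n < 46, n ∈ N1L ∨ iv n ∈ N1L → ∀ y ∈ [38, 40],
      ∃ x ∈ ([([30, 38, 31], [38, 40]), ([30, 40, 31], [40]), ([31, 38, 30], [38, 40, 40, 40, 40]), ([31, 40, 30], [40]), ([28, 38, 29], [38]), ([28, 40, 29], [38, 40]), ([29, 38, 28], [38]), ([29, 40, 28], [38, 38, 38, 38, 40]), ([32, 38, 33], [38]), ([32, 40, 33], [40]), ([33, 38, 32], [38]), ([33, 40, 32], [40]), ([34, 38, 35], [38]), ([34, 40, 35], [40]), ([35, 38, 34], [38]), ([35, 40, 34], [40]), ([36, 38, 37], [38]), ([36, 40, 37], [40]), ([37, 38, 36], [38]), ([37, 40, 36], [40]), ([38, 38, 39], [38]), ([38, 40, 39], [40]), ([39, 38, 38], [38]), ([39, 40, 38],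 [40]), ([40, 38, 41], [38]), ([40, 40, 41], [40]), ([41, 38, 40], [38]), ([41, 40, 40], [40]), ([42, 38, 43], [38, 38, 38]), ([42, 40, 43], [40, 40]), ([43, 38, 42], [38, 38]), ([43, 40, 42], [40, 40, 40]), ([44, 38, 45], [38, 38, 38]), ([44, 40, 45], [40]), ([45, 38, 44], [38, 38]), ([45, 40, 44], [40])] : List (List ℕ × List ℕ)), x.1 = [n, y, iv n] := by decide +kernel
  obtain ⟨x, hx, hx1⟩ := key n hn hN y hy
  have h2 := conj_list x hx
  rw [hx1] at h2
  exact conj_ok n y x.2 hn h2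

theorem conj_AA {g : P44} (h : ∀ y ∈ [38, 40], g * Y y * g⁻¹ ∈ AA) : ∀ a ∈ AA, g * a * g⁻¹ ∈ AA := by
  have h1 : AA ≤ AA.comap (MulAut.conj g).toMonoidHom := by
    apply gpY_le
    intro k hk
    exact h k hk
  intro a ha
  exact h1 ha

theorem N1L_lt : ∀ k ∈ N1L, k < 46 ∧ iv k < 46 ∧ iv (iv k) = k := by decide +kernel

theorem NN_AA : ∀ n ∈ NN, ∀ a ∈ AA, n * a * n⁻¹ ∈ AA := by
  have key : ∀ n ∈ NN, (∀ a ∈ AA, n * a * n⁻¹ ∈ AA) ∧ (∀ a ∈ AA, n⁻¹ * a * n⁻¹⁻¹ ∈ AA) := by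
    intro n hn
    induction hn using Subgroup.closure_induction with
    | mem x hx =>
      obtain ⟨k, hk, rfl⟩ := hx
      obtain ⟨h1, h2, h3⟩ := N1L_lt k hk
      refine ⟨conj_AA (conj_gen k h1 (Or.inl hk)), ?_⟩
      rw [← Y_iv k h1]
      exact conj_AA (conj_gen (iv k) h2 (Or.inr (by rw [h3]; exact hk)))
    | one => simp
    | mul x y _ _ hx hy =>
      refine ⟨fun a ha => ?_, fun a ha => ?_⟩
      · have := hx.1 _ (hy.1 a ha)
        have e : x * y * a * (x * y)⁻¹ = x * (y * a * y⁻¹) * x⁻¹ := by group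
        rwa [e]
      · have := hy.2 _ (hx.2 a ha)
        have e : (x * y)⁻¹ * a * (x * y)⁻¹⁻¹ = y⁻¹ * (x⁻¹ * a * x⁻¹⁻¹) * y⁻¹⁻¹ := by group
        rwa [e]
    | inv x _ hx =>
      exact ⟨hx.2, by rw [inv_inv]; exact hx.1⟩
  exact fun n hn => (key n hn).1

theorem AA_comm : ∀ a ∈ AA, ∀ b ∈ AA, a * b = b * a := by
  have h : Y 38 * Y 40 = Y 40 * Y 38 := by
    have := evY_eq [38, 40] [40, 38] (by decide +kernel)
    simpa [ev] using this
  have h1 : ∀ y ∈ [38, 40], ∀ a ∈ AA, a * Y y = Y y * a := by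
    intro y hy
    have : AA ≤ Subgroup.centralizer {Y y} := by
      apply gpY_le
      intro k hk
      rw [Subgroup.mem_centralizer_singleton_iff]
      simp only [List.mem_cons, List.not_mem_nil, or_false] at hy hk
      rcases hy with rfl | rfl <;> rcases hk with rfl | rfl
      · rfl
      · exact h.symm
      · exact h
      · rfl
    intro a ha
    exact Subgroup.mem_centralizer_singleton_iff.mp (this ha)
  intro a ha b hb
  have h2 : AA ≤ Subgroup.centralizer {a} := by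
    apply gpY_le
    intro k hk
    rw [Subgroup.mem_centralizer_singleton_iff]
    exact (h1 k hk a ha).symm
  exact (Subgroup.mem_centralizer_singleton_iff.mp (h2 hb)).symm

/-! ### generation -/

theorem eq_top_of_roots {S : Subgroup P44} (h : ∀ j ∈ [18, 26, 28, 30, 32, 34, 36, 38, 40], Y j ∈ S) : S = ⊤ := by
  have hY : ∀ j ∈ [18, 19, 26, 27, 28, 29, 30, 31, 32, 34, 36, 39, 40], Y j ∈ S := by
    intro j hj
    have h1 : j ∈ [18, 26, 28, 30, 32, 34, 36, 38, 40] ∨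
        (iv j ∈ [18, 26, 28, 30, 32, 34, 36, 38, 40] ∧ j < 46) := by
      revert j; decide +kernel
    rcases h1 with h1 | ⟨h1, h2⟩
    · exact h j h1
    · have h4 : Y (iv j) ∈ S := h _ h1
      rw [Y_iv j h2] at h4
      exact (S.inv_mem_iff).mp h4
  apply eq_top_of_mem
  · rw [← evY_X [32, 27, 32, 31, 31, 29, 29, 31, 31, 31, 28, 31] 0 (by decide +kernel)]
    exact memY_of_word fun j hj => hY j (by revert j; decide)
  · rw [← evY_X [32] 2 (by decide +kernel)]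
    exact memY_of_word fun j hj => hY j (by revert j; decide)
  · rw [← evY_X [34, 34, 36, 39, 40, 40] 4 (by decide +kernel)]
    exact memY_of_word fun j hj => hY j (by revert j; decide)
  · rw [← evY_X [40, 19, 40] 6 (by decide +kernel)]
    exact memY_of_word fun j hj => hY j (by revert j; decide)

/-- `(t, b, u)`: `Y t = u⁻¹ * Y b * u` -/
def conjTab : List (ℕ × ℕ × List ℕ) := [(38, 40, [30, 29, 30]), (30, 40, [30, 29, 30, 32, 27, 32]), (28, 40, [30, 29, 30, 33, 26, 33, 30, 29, 30]), (20, 40, [30, 29, 30, 32, 27, 32, 30, 29, 30, 32, 27, 32]), (18, 40, [30, 29, 30, 32, 27, 32, 30, 29, 30, 32, 27, 32, 31, 28, 31]), (34, 32, [31, 28, 31]), (36, 32, [30, 29, 30, 32, 27, 32]), (24, 32, [32, 27, 32, 30, 29, 30]), (26, 32, [32, 27, 32, 44]), (22, 32, [32, 27, 32, 30, 29, 30, 33, 26, 33])]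

theorem check_conjTab : ∀ x ∈ conjTab, checkEq C7 (([x.2.1] ++ x.2.2).map cd) ((x.2.2 ++ [x.1]).map cd) 0 7 = true := by
  decide +kernel

theorem conjTab_mem {S : Subgroup P44} (hS : S.Normal) (x : ℕ × ℕ × List ℕ) (hx : x ∈ conjTab)
    (h : Y x.2.1 ∈ S) : Y x.1 ∈ S := by
  have h1 := evY_eq _ _ (check_conjTab x hx)
  rw [ev_append, ev_append, ev_cons, ev_nil, mul_one, ev_cons, ev_nil, mul_one] at h1
  have e : Y x.1 = (ev Y x.2.2)⁻¹ * Y x.2.1 * (ev Y x.2.2)⁻¹⁻¹ := by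
    rw [inv_inv, mul_assoc, h1, inv_mul_cancel_left]
  rw [e]
  exact hS.conj_mem _ h _

theorem aux_group {G : Type*} [Group G] (p q r : G) :
    p⁻¹ * (q⁻¹ * (q⁻¹ * (p * (q * (q * (p⁻¹ * (q * (p * (q⁻¹ * (r⁻¹ * (r⁻¹ * 1))))))))))) =
      (p⁻¹ * (q * q)⁻¹ * p * (q * q)) * (p⁻¹ * (q⁻¹)⁻¹ * p * q⁻¹) * (r⁻¹ * r⁻¹) := by
  group

theorem mem_x7 {S : Subgroup P44} (hS : S.Normal) (h28 : Y 28 ∈ S) (h40 : Y 40 ∈ S) : Y 32 ∈ S := by
  have hc : ∀ g : P44, (Y 28)⁻¹ * g⁻¹ * Y 28 * g ∈ S := by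
    intro g
    have h1 := hS.conj_mem _ h28 g⁻¹
    rw [inv_inv] at h1
    have e : (Y 28)⁻¹ * g⁻¹ * Y 28 * g = (Y 28)⁻¹ * (g⁻¹ * Y 28 * g) := by simp only [mul_assoc]
    rw [e]
    exact S.mul_mem (S.inv_mem h28) h1
  have i29 : Y 29 = (Y 28)⁻¹ := Y_iv 28 (by norm_num)
  have i35 : Y 35 = (Y 34)⁻¹ := Y_iv 34 (by norm_num)
  have i41 : Y 41 = (Y 40)⁻¹ := Y_iv 40 (by norm_num)
  rw [← evY_X [29, 35, 35, 28, 34, 34, 29, 34, 28, 35, 41, 41] 32 (by decide +kernel)]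
  rw [ev_cons, ev_cons, ev_cons, ev_cons, ev_cons, ev_cons, ev_cons, ev_cons, ev_cons, ev_cons, ev_cons, ev_cons,
    ev_nil, i29, i35, i41, aux_group]
  exact S.mul_mem (S.mul_mem (hc _) (hc _)) (S.mul_mem (S.inv_mem h40) (S.inv_mem h40))

theorem conjTab_mem' {S : Subgroup P44} (hS : S.Normal) (t b : ℕ) (u : List ℕ) (hx : (t, b, u) ∈ conjTab)
    (h : Y b ∈ S) : Y t ∈ S := conjTab_mem hS (t, b, u) hx h

theorem normal_eq_top {S : Subgroup P44} (hS : S.Normal) (h40 : Y 40 ∈ S) (h38 : Y 38 ∈ S) : S = ⊤ := by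
  have h28 : Y 28 ∈ S := conjTab_mem' hS 28 40 [30, 29, 30, 33, 26, 33, 30, 29, 30] (by decide) h40
  have h30 : Y 30 ∈ S := conjTab_mem' hS 30 40 [30, 29, 30, 32, 27, 32] (by decide) h40
  have h18 : Y 18 ∈ S := conjTab_mem' hS 18 40 [30, 29, 30, 32, 27, 32, 30, 29, 30, 32, 27, 32, 31, 28, 31]
    (by decide) h40
  have h32 : Y 32 ∈ S := mem_x7 hS h28 h40
  have h34 : Y 34 ∈ S := conjTab_mem' hS 34 32 [31, 28, 31] (by decide) h32
  have h36 : Y 36 ∈ S := conjTab_mem' hS 36 32 [30, 29, 30, 32, 27, 32] (by decide) h32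
  have h26 : Y 26 ∈ S := conjTab_mem' hS 26 32 [32, 27, 32, 44] (by decide) h32
  apply eq_top_of_roots
  intro j hj
  simp only [List.mem_cons, List.not_mem_nil, or_false] at hj
  rcases hj with rfl | rfl | rfl | rfl | rfl | rfl | rfl | rfl | rfl
  · exact h18
  · exact h26
  · exact h28
  · exact h30
  · exact h32
  · exact h34
  · exact h36
  · exact h38
  · exact h40

theorem normalClosure_AA : Subgroup.normalClosure (AA : Set P44) = ⊤ :=
  normal_eq_top Subgroup.normalClosure_normal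
    (Subgroup.subset_normalClosure (gpY_mem (by decide)))
    (Subgroup.subset_normalClosure (gpY_mem (by decide)))

/-- `(t, h, w)`: `Y t = [Y h, w]` -/
def comTab : List (ℕ × ℕ × List ℕ) := [(18, 42, [19, 19]), (20, 42, [20]), (22, 44, [23, 23]), (24, 42, [25, 25]), (26, 42, [26]), (28, 42, [28, 28]), (30, 42, [30, 30]), (32, 42, [33, 33]), (34, 42, [34]), (36, 44, [36]), (38, 42, [39, 39]), (40, 42, [40])]

theorem check_comTab : ∀ x ∈ comTab,
    checkEq C7 (([x.2.1] ++ x.2.2).map cd) (([x.1] ++ x.2.2 ++ [x.2.1]).map cd) 0 7 = true := by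
  decide +kernel

theorem comTab_mem (x : ℕ × ℕ × List ℕ) (hx : x ∈ comTab) : Y x.1 ∈ commutator P44 := by
  have h1 := evY_eq _ _ (check_comTab x hx)
  rw [ev_append, ev_append, ev_append, ev_cons, ev_nil, mul_one, ev_cons, ev_nil, mul_one] at h1
  have e : Y x.1 = ⁅Y x.2.1, ev Y x.2.2⁆ := by
    rw [commutatorElement_def, h1]
    group
  rw [e, commutator_def]
  exact Subgroup.commutator_mem_commutator trivial trivial

theorem commutator_top : commutator P44 = ⊤ := by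
  apply eq_top_of_roots
  intro j hj
  have key : ∀ j ∈ [18, 26, 28, 30, 32, 34, 36, 38, 40], ∃ x ∈ comTab, x.1 = j := by decide
  obtain ⟨x, hx, rfl⟩ := key j hj
  exact comTab_mem x hx

/-! ### the core of the line stabiliser is trivial -/

/-- the base vector -/
noncomputable def v0 : Fin C7.n → ZMod C7.p := rowVec C7 (unitRow C7 1 5)

theorem unit5 {c : ℕ} (hc : c < C7.p) : rowVec C7 (unitRow C7 c 5) = (c : ZMod C7.p) • v0 := by
  unfold v0
  rw [(unitRow_ok good7 hc (by decide : 5 < C7.n)).2, (unitRow_ok good7 one_lt_p (by decide : 5 < C7.n)).2,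
    Nat.cast_one, one_smul]

theorem ok_unit5 {c : ℕ} (hc : c < C7.p) : OkR C7 (unitRow C7 c 5) :=
  (unitRow_ok good7 hc (by decide : 5 < C7.n)).1

theorem gen_scale : ∀ k < 46, k ∈ N1L ∨ iv k ∈ N1L → ∃ c < C7.p, step C7 (unitRow C7 1 5) (cd k) = unitRow C7 c 5 := by
  decide +kernel

theorem NN_scale : ∀ n ∈ NN, ∃ c : ZMod C7.p, Matrix.vecMul v0 (φ n : Mat7) = c • v0 := by
  have key : ∀ n ∈ NN, (∃ c : ZMod C7.p, Matrix.vecMul v0 (φ n : Mat7) = c • v0) ∧
      (∃ c : ZMod C7.p, Matrix.vecMul v0 (φ n⁻¹ : Mat7) = c • v0) := by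
    have base : ∀ k < 46, k ∈ N1L ∨ iv k ∈ N1L → ∃ c : ZMod C7.p, Matrix.vecMul v0 (φ (Y k) : Mat7) = c • v0 := by
      intro k hk h
      obtain ⟨c, hc, h1⟩ := gen_scale k hk h
      refine ⟨(c : ZMod C7.p), ?_⟩
      rw [φ_Y, ← unit5 hc, ← h1, step_X (ok_unit5 one_lt_p)]
      rfl
    intro n hn
    induction hn using Subgroup.closure_induction with
    | mem x hx =>
      obtain ⟨k, hk, rfl⟩ := hx
      obtain ⟨h1, h2, h3⟩ := N1L_lt k hk
      refine ⟨base k h1 (Or.inl hk), ?_⟩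
      rw [← Y_iv k h1]
      exact base (iv k) h2 (Or.inr (by rw [h3]; exact hk))
    | one =>
      refine ⟨⟨1, ?_⟩, ⟨1, ?_⟩⟩
      · rw [map_one, Units.val_one, Matrix.vecMul_one, one_smul]
      · rw [inv_one, map_one, Units.val_one, Matrix.vecMul_one, one_smul]
    | mul x y _ _ hx hy =>
      obtain ⟨⟨c, hc⟩, ⟨c', hc'⟩⟩ := hx
      obtain ⟨⟨d, hd⟩, ⟨d', hd'⟩⟩ := hy
      refine ⟨⟨c * d, ?_⟩, ⟨d' * c', ?_⟩⟩
      · rw [map_mul, Units.val_mul, ← Matrix.vecMul_vecMul, hc, Matrix.smul_vecMul, hd, smul_smul]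
      · rw [mul_inv_rev, map_mul, Units.val_mul, ← Matrix.vecMul_vecMul, hd', Matrix.smul_vecMul, hc', smul_smul]
    | inv x _ hx => exact ⟨hx.2, by rw [inv_inv]; exact hx.1⟩
  exact fun n hn => (key n hn).1

/-- images of the base vector are eigenvectors of an element of a normal subgroup of the line stabiliser -/
theorem eigen {K : Subgroup P44} (hK : K.Normal) (hle : K ≤ NN) {k : P44} (hk : k ∈ K) (w : List ℕ) :
    ∃ c : ZMod C7.p, Matrix.vecMul (rowVec C7 (run C7 (w.map cd) (unitRow C7 1 5))) (φ k : Mat7) =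
      c • rowVec C7 (run C7 (w.map cd) (unitRow C7 1 5)) := by
  obtain ⟨c, hc⟩ := NN_scale _ (hle (hK.conj_mem k hk (ev Y w)))
  refine ⟨c, ?_⟩
  have h1 : rowVec C7 (run C7 (w.map cd) (unitRow C7 1 5)) = Matrix.vecMul v0 (φ (ev Y w) : Mat7) := by
    rw [(run_spec good7 (w.map cd) (ok_map _) (ok_unit5 one_lt_p)).2, φ_ev, ev_val]
    rfl
  rw [h1, ← Matrix.smul_vecMul, ← hc, Matrix.vecMul_vecMul, Matrix.vecMul_vecMul, ← Units.val_mul,
    ← Units.val_mul, ← map_mul, ← map_mul]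
  congr 3
  group

/-- words for the rows of `UU` -/
def uw' : Fin 7 → List ℕ := ![
  [32, 27, 32, 30, 29, 30, 32, 27, 32, 28, 42, 30, 42],
  [32, 27, 32, 30, 29, 30, 32, 27, 32, 30, 29, 30, 32, 27, 32, 32, 44, 44],
  [32, 27, 32, 28, 44, 44, 30],
  [32, 27, 32, 30, 29, 30, 32, 27, 32, 42],
  [32, 27, 32, 30, 29, 30, 32, 27, 32, 44, 32],
  [],
  [32, 27, 32, 32, 44, 44]]

def uw : Fin C7.n → List ℕ := uw'

def u8 : List ℕ := [32, 27, 32, 30, 29, 30, 32, 27, 32, 30, 29, 30, 32, 27, 32, 36, 40]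

def UU' : Matrix (Fin 7) (Fin 7) (ZMod 5) :=
  !![1, 0, 0, 0, 0, 0, 0; 0, 1, 0, 0, 0, 0, 0; 0, 0, 1, 0, 0, 0, 0; 0, 0, 2, 1, 2, 0, 0; 0, 0, 0, 0, 1, 0, 0;
     0, 0, 0, 0, 0, 1, 0; 0, 0, 0, 0, 0, 0, 1]

def VV' : Matrix (Fin 7) (Fin 7) (ZMod 5) :=
  !![1, 0, 0, 0, 0, 0, 0; 0, 1, 0, 0, 0, 0, 0; 0, 0, 1, 0, 0, 0, 0; 0, 0, 3, 1, 3, 0, 0; 0, 0, 0, 0, 1, 0, 0;
     0, 0, 0, 0, 0, 1, 0; 0, 0, 0, 0, 0, 0, 1]

def cc' : Fin 7 → ZMod 5 := ![1, 4, 4, 2, 1, 2, 4]

def UU : Mat7 := UU'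

def VV : Mat7 := VV'

def cc : Fin C7.n → ZMod C7.p := cc'

theorem UV' : UU' * VV' = 1 := by decide +kernel

theorem VU' : VV' * UU' = 1 := by decide +kernel

theorem UV : UU * VV = 1 := UV'

theorem VU : VV * UU = 1 := VU'

noncomputable def rv' (i : Fin 7) : Fin 7 → ZMod 5 := rowVec C7 (run C7 ((uw' i).map cd) (unitRow C7 1 5))

noncomputable def RV' : Matrix (Fin 7) (Fin 7) (ZMod 5) := fun i => rv' i

theorem rv'_eq : RV' = UU' := by decide +kernel

theorem UU_row (i : Fin C7.n) : ∀ j, rowVec C7 (run C7 ((uw i).map cd) (unitRow C7 1 5)) j = UU i j :=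
  congrFun (congrFun rv'_eq i)

theorem u8_row : ∀ j, rowVec C7 (run C7 (u8.map cd) (unitRow C7 1 5)) j = Matrix.vecMul cc UU j := by
  decide +kernel

theorem cc_unit' : ∀ i : Fin 7, ∃ d : ZMod 5, d * cc' i = 1 := by decide +kernel

theorem cc_unit : ∀ i, ∃ d : ZMod C7.p, d * cc i = 1 := cc_unit'

theorem scalar_of_eigen (M : Mat7) (hrow : ∀ i : Fin C7.n, ∃ c : ZMod C7.p, Matrix.vecMul (UU i) M = c • UU i)
    (h8 : ∃ c : ZMod C7.p, Matrix.vecMul (Matrix.vecMul cc UU) M = c • Matrix.vecMul cc UU) :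
    ∃ c : ZMod C7.p, M = c • (1 : Mat7) := by
  choose l hl using hrow
  obtain ⟨c, hc⟩ := h8
  have h1 : UU * M = Matrix.diagonal l * UU := by
    ext i j
    rw [Matrix.diagonal_mul]
    have := congrFun (hl i) j
    rw [Pi.smul_apply, smul_eq_mul] at this
    rw [← this]
    rfl
  have h2 : Matrix.vecMul (Matrix.vecMul cc (Matrix.diagonal l)) UU = Matrix.vecMul (c • cc) UU := by
    rw [Matrix.smul_vecMul, ← hc, Matrix.vecMul_vecMul, Matrix.vecMul_vecMul, h1]
  have h3 : Matrix.vecMul cc (Matrix.diagonal l) = c • cc := by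
    have := congrArg (fun u => Matrix.vecMul u VV) h2
    simp only [Matrix.vecMul_vecMul, UV, Matrix.vecMul_one] at this
    rwa [Matrix.mul_assoc, UV, Matrix.mul_one] at this
  have h4 : ∀ i, l i = c := by
    intro i
    obtain ⟨d, hd⟩ := cc_unit i
    have := congrFun h3 i
    rw [Matrix.vecMul_diagonal, Pi.smul_apply, smul_eq_mul] at this
    calc l i = (d * cc i) * l i := by rw [hd, one_mul]
      _ = d * (cc i * l i) := by ring
      _ = d * (c * cc i) := by rw [this]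
      _ = (d * cc i) * c := by ring
      _ = c := by rw [hd, one_mul]
  refine ⟨c, ?_⟩
  have h5 : l = fun _ => c := funext h4
  rw [h5] at h1
  calc M = VV * (UU * M) := by rw [← Matrix.mul_assoc, VU, Matrix.one_mul]
    _ = VV * (Matrix.diagonal (fun _ => c) * UU) := by rw [h1]
    _ = c • (1 : Mat7) := by
      rw [← Matrix.smul_one_eq_diagonal, Matrix.smul_mul, Matrix.one_mul, Matrix.mul_smul, VU]

theorem det_eq_one (g : P44) : (φ g : Mat7).det = 1 := by
  let D : P44 →* (ZMod C7.p)ˣ := Matrix.GeneralLinearGroup.det.comp φ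
  have h1 : g ∈ D.ker := by
    have h2 : commutator P44 ≤ D.ker := Abelianization.commutator_subset_ker D
    rw [commutator_top] at h2
    exact h2 trivial
  have h3 : D g = 1 := h1
  have h4 : Matrix.GeneralLinearGroup.det (φ g) = 1 := h3
  rw [← Matrix.GeneralLinearGroup.val_det_apply, h4, Units.val_one]

theorem core_bot (K : Subgroup P44) (hK : K.Normal) (hle : K ≤ NN) : K = ⊥ := by
  rw [eq_bot_iff]
  intro k hk
  rw [Subgroup.mem_bot]
  obtain ⟨c, hc⟩ := scalar_of_eigen (φ k : Mat7) (by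
    intro i
    obtain ⟨c, hc⟩ := eigen hK hle hk (uw i)
    have h1 : rowVec C7 (run C7 ((uw i).map cd) (unitRow C7 1 5)) = UU i := funext (UU_row i)
    rw [h1] at hc
    exact ⟨c, hc⟩) (by
    obtain ⟨c, hc⟩ := eigen hK hle hk u8
    have h1 : rowVec C7 (run C7 (u8.map cd) (unitRow C7 1 5)) = Matrix.vecMul cc UU := funext u8_row
    rw [h1] at hc
    exact ⟨c, hc⟩)
  have h1 := det_eq_one k
  rw [hc, Matrix.det_smul, Matrix.det_one, mul_one, Fintype.card_fin] at h1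
  have h2 : ∀ c : ZMod 5, c ^ 7 = 1 → c = 1 := by decide
  have h3 : c = 1 := h2 c h1
  apply φ_injective
  apply Units.ext
  rw [hc, h3, one_smul, map_one, Units.val_one]

instance : Nontrivial P44 := by
  have : Finite P44 := inferInstance
  rw [← Finite.one_lt_card_iff_nontrivial, card_P44]
  norm_num

/-- `G₂(5)` is simple. -/
theorem isSimpleGroup_P44 : IsSimpleGroup P44 :=
  Cfsg.Agent.Lib.IwasawaCoset.isSimpleGroup NN AA NN_max NN_AA AA_comm normalClosure_AA commutator_top core_bot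

theorem isSimpleGroup_M7 : IsSimpleGroup M7.M7 := by
  have := isSimpleGroup_P44
  exact MulEquiv.isSimpleGroup equiv.symm

end Cfsg.Agent.SporRec.LyG2.Simple
end
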